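import Cfsg.Agent.Alt12Inv.CloseFour

/-!
# An alternating subgroup of degree twelve or thirteen containing the centralizer is everything
-/

set_option autoImplicit false
set_option linter.unusedSectionVars false

namespace CfsgLib.Alt12Inv

open Equiv Equiv.Perm Subgroup

universe u

variable {G : Type u} [Group G] [Finite G] {α : G} {n : ℕ} [NeZero n] (C : Core α n)

include C

namespace Core

theorem six_val (hn : n = 12 ∨ n = 13) : ∃ x : ↥(alternatingGroup (Fin n)), Six (x : Perm (Fin n)) ∧ C.f x = α := by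
  obtain ⟨x, hx⟩ := C.le α (Commute.refl α)
  exact ⟨x, (C.six x).2 (by rw [hx]), hx⟩

theorem cent (hn : n = 12 ∨ n = 13) {x : ↥(alternatingGroup (Fin n))} (hx : Six (x : Perm (Fin n))) {c : G}
    (hc : Commute c (C.f x)) : c ∈ C.f.range := by
  obtain ⟨x₀, h₀, e₀⟩ := C.six_val hn
  obtain ⟨k, hk, hkx⟩ := exists_conj_alt h₀.1 hx.1 h₀.ne_one (h₀.2.trans hx.2.symm)
  exact cent_of_conj (x := x₀) (k := ⟨k, hk⟩) (Subtype.ext hkx) (fun d hd => C.le d (e₀ ▸ hd)) hc

theorem stab_mem (hn : n = 12 ∨ n = 13) {x : ↥(alternatingGroup (Fin n))} (hx : Six (x : Perm (Fin n))) {g : G}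
    (h : g * C.f x * g⁻¹ ∈ C.f.range) : g ∈ C.f.range := by
  obtain ⟨y, hy⟩ := h
  have hy6 : Six (y : Perm (Fin n)) := (C.six y).2 (((C.six x).1 hx).trans (isConj_iff.2 ⟨g, hy.symm⟩))
  obtain ⟨k, hk, hkx⟩ := exists_conj_alt hx.1 hy6.1 hx.ne_one (hx.2.trans hy6.2.symm)
  let k' : ↥(alternatingGroup (Fin n)) := ⟨k, hk⟩
  have hc : Commute ((C.f k')⁻¹ * g) (C.f x) := by
    refine mul_inv_eq_iff_eq_mul.1 ?_
    calc (C.f k')⁻¹ * g * C.f x * ((C.f k')⁻¹ * g)⁻¹ = (C.f k')⁻¹ * (g * C.f x * g⁻¹) * C.f k' := by group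
      _ = C.f x := by
        rw [← hy, ← (show k' * x * k'⁻¹ = y from Subtype.ext hkx), map_mul, map_mul, map_inv]
        group
  simpa using mul_mem (show C.f k' ∈ C.f.range from ⟨k', rfl⟩) (C.cent hn hx hc)

theorem safe_of_four (hn : n = 12 ∨ n = 13) {x : ↥(alternatingGroup (Fin n))} (hx : Four (x : Perm (Fin n))) {c : G}
    (hc : Commute c (C.f x)) : c ∈ C.f.range := by
  obtain ⟨hp4, hp4s, -, -⟩ := four_facts hn
  let j : ↥(alternatingGroup (Fin n)) := ⟨pFour n, mem_alternatingGroup.2 hp4s⟩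
  let K : Subgroup (Perm (Fin n)) := alternatingGroup (Fin n) ⊓ centralizer {pFour n}
  have hK : ∀ y, y ∈ K ↔ y ∈ alternatingGroup (Fin n) ∧ Commute y (pFour n) := fun y =>
    and_congr Iff.rfl mem_centralizer_singleton_iff
  have memK : ∀ ρ, ρ = pReg₁ n ∨ ρ = pReg₂ n → ρ ∈ K := fun ρ h =>
    (hK ρ).2 ⟨mem_alternatingGroup.2 (reg_facts hn h).2.1, (reg_facts hn h).2.2.1⟩
  let ι : ↥K →* ↥(alternatingGroup (Fin n)) := inclusion inf_le_left
  let j' : ↥K := ⟨pFour n, (hK _).2 ⟨mem_alternatingGroup.2 hp4s, Commute.refl _⟩⟩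
  let a : ↥K := ⟨pReg₁ n, memK _ (Or.inl rfl)⟩
  let b : ↥K := ⟨pReg₂ n, memK _ (Or.inr rfl)⟩
  have hsafe : ∀ d, Commute d (C.f j) → d ∈ C.f.range := by
    intro d hd
    have key := safe_four hn hK (C.f.comp ι) (C.inj.comp (inclusion_injective inf_le_left))
      (j := j') (a := a) (b := b) rfl rfl rfl (fun y => C.six (ι y)) (fun y z => C.twoFour (ι y) (ι z))
      (fun y hy e hej hey => ?_) (fun e hej hea heb => ?_) C.two d hd
    · obtain ⟨z, hz⟩ := key
      exact ⟨ι z, hz⟩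
    · obtain ⟨z, hz⟩ := C.cent hn (x := ι y) hy hey
      have hzj : Commute (z : Perm (Fin n)) (pFour n) :=
        val_commute C.inj (x := z) (y := ι j') (by rw [hz]; exact hej)
      exact ⟨⟨z, (hK _).2 ⟨z.2, hzj⟩⟩, hz⟩
    · obtain ⟨z, hz⟩ := C.reg (ι j') (ι a) (ι b) rfl rfl rfl e hej hea heb
      have hzj : Commute (z : Perm (Fin n)) (pFour n) :=
        val_commute C.inj (x := z) (y := ι j') (by rw [hz]; exact hej)
      exact ⟨⟨z, (hK _).2 ⟨z.2, hzj⟩⟩, hz⟩
  obtain ⟨k, hk, hkx⟩ := exists_conj_alt hp4.1 hx.1 hp4.ne_one (hp4.2.trans hx.2.symm)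
  exact cent_of_conj (x := j) (k := ⟨k, hk⟩) (Subtype.ext hkx) hsafe hc

theorem safe_big (hn : n = 12 ∨ n = 13) {x : ↥(alternatingGroup (Fin n))} (hx : x * x = 1)
    (h8 : 5 ≤ (x : Perm (Fin n)).support.card) {c : G} (hc : Commute c (C.f x)) : c ∈ C.f.range := by
  have hx1 : (x : Perm (Fin n)) ≠ 1 := fun e => by simp [e] at h8
  rcases invol_cases (by omega) (congrArg Subtype.val hx) x.2 hx1 with h | h | h
  · rw [h.2] at h8; omega
  · exact C.safe_of_four hn h hc
  · exact C.cent hn h hc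

theorem safe_two (hn : n = 12 ∨ n = 13) {x : ↥(alternatingGroup (Fin n))} (hx : Two (x : Perm (Fin n))) {c : G}
    (hc : Commute c (C.f x)) : c ∈ C.f.range := by
  obtain ⟨hJ, hU, -, hJs, hUs, hWs, hWJ, hJU, hJW, hJsupp, hUsupp, hWsupp⟩ := v_facts hn
  obtain ⟨hE, hEs, hEsupp, hJE6, hWE6, hJl, hUl, -⟩ := e4_facts hn
  obtain ⟨hZ, hZs, hJZ, hUZ, hZJ⟩ := z_facts hn
  obtain ⟨horb, hJ0, hU0, hJU0, -, hJ1, hJ01, hU1, hJ2, h32, hfour⟩ := v_orbit hn
  have hn13 : n ≤ 13 := by omega
  let J : ↥(alternatingGroup (Fin n)) := ⟨cJ n, mem_alternatingGroup.2 hJs⟩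
  let V : ↥(alternatingGroup (Fin n)) := ⟨cU n, mem_alternatingGroup.2 hUs⟩
  let W : ↥(alternatingGroup (Fin n)) := ⟨cW n, mem_alternatingGroup.2 hWs⟩
  let E : ↥(alternatingGroup (Fin n)) := ⟨cE4 n, mem_alternatingGroup.2 hEs⟩
  let Z : ↥(alternatingGroup (Fin n)) := ⟨cZ n, mem_alternatingGroup.2 hZs⟩
  have hJJ : J * J = 1 := Subtype.ext hJ.1
  have hVV : V * V = 1 := Subtype.ext hU.1
  have hEE : E * E = 1 := Subtype.ext hE.1
  have hZZ : Z * Z = 1 := Subtype.ext hZ.1
  have hJV : Commute J V := Subtype.ext hJU.eq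
  have hJZ' : Commute J Z := Subtype.ext hJZ.eq
  have hVZ' : Commute V Z := Subtype.ext hUZ.eq
  have low : ∀ y : Perm (Fin n), (∀ i, y i ≠ i → i.val < 4) → ∀ i, ¬ i.val < 4 → y i = i :=
    fun y hy i hi => by_contra fun h => hi (hy i h)
  suffices hsafe : ∀ d, Commute d (C.f J) → d ∈ C.f.range by
    obtain ⟨k, hk, hkx⟩ := exists_conj_alt hJ.1 hx.1 hJ.ne_one (hJ.2.trans hx.2.symm)
    exact cent_of_conj (x := J) (k := ⟨k, hk⟩) (Subtype.ext hkx) hsafe hc
  intro d hd
  by_contra hout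
  have hl2 : Six ((J * E : ↥(alternatingGroup (Fin n))) : Perm (Fin n)) := hJE6
  obtain ⟨m, hm⟩ : ∃ m, m = d * C.f (J * E) * d⁻¹ := ⟨_, rfl⟩
  have hmα : IsConj α m := ((C.six _).1 hl2).trans (isConj_iff.2 ⟨d, hm.symm⟩)
  have hmout : m ∉ C.f.range := fun h => hout (C.stab_mem hn hl2 (hm ▸ h))
  have hJE : Commute J E := Subtype.ext (commute_of_fixed (fun i => ¬ i.val < 4) (low _ hJsupp)
    (fun i hi => by_contra fun h => hi (fun h' => absurd (hEsupp i h) (by omega)))).eq
  have hmJ : Commute (C.f J) m :=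
    hm ▸ (hd.symm.mul_right (((Commute.refl J).mul_right hJE).map C.f)).mul_right hd.symm.inv_right
  have hJm : IsConj (C.f E) (C.f J * m) := isConj_iff.2 ⟨d, by
    have h1 : C.f E = C.f J * C.f (J * E) := by rw [← map_mul, ← mul_assoc, hJJ, one_mul]
    rw [h1, hm]
    calc d * (C.f J * C.f (J * E)) * d⁻¹ = d * C.f J * C.f (J * E) * d⁻¹ := by group
      _ = _ := by rw [hd.eq]; group⟩
  have hl : Six ((W * E : ↥(alternatingGroup (Fin n))) : Perm (Fin n)) := hWE6
  have hJl' : Commute J (W * E) := Subtype.ext hJl.eq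
  have hVl' : Commute V (W * E) := Subtype.ext hUl.eq
  obtain ⟨y, r, hy, hr, hrc, ⟨k, hk⟩, hz⟩ := split (P := fun x : ↥(alternatingGroup (Fin n)) => Six (x : Perm (Fin n)))
    C.inj C.six (fun x hx => Subtype.ext hx.1) C.two (U := (⊥ : Subgroup G))
    (fun u hu => by rw [mem_bot.1 hu, one_mul])
    (fun x hx e _ he => C.cent hn hx he) hmα (fun u hu => by rw [mem_bot.1 hu]; exact Commute.one_left _) hl
    (fun u hu => by rw [mem_bot.1 hu]; exact Commute.one_left _)
  have hrJ : Commute (C.f J) r := hrc _ (hJl'.map C.f) hmJ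
  have hJy : Commute (J : Perm (Fin n)) y :=
    val_commute C.inj (hr ▸ (hrJ.mul_right hmJ).mul_right hrJ.inv_right)
  have hπ4 : Four ((J * y : ↥(alternatingGroup (Fin n))) : Perm (Fin n)) :=
    four_of_conj hn13 le_rfl C.inj C.six C.twoFour hE (hJm.trans (isConj_iff.2 ⟨r, by
      rw [map_mul, ← hr]
      calc r * (C.f J * m) * r⁻¹ = r * C.f J * m * r⁻¹ := by group
        _ = _ := by rw [← hrJ.eq]; group⟩))
  -- `y` agrees with `J` on the first four points
  have hJmove : ∀ i : Fin n, i.val < 4 → cJ n i ≠ i := by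
    have hJJi : ∀ i, cJ n (cJ n i) = i := fun i => by rw [← Perm.mul_apply, hJ.1, Perm.one_apply]
    intro i hi
    rcases hfour i hi with rfl | rfl | rfl | rfl
    · exact hJ0
    · rw [hJ1]; intro e; exact hJ0 (by rw [hJ01, ← e])
    · rw [hJ2]; exact h32
    · intro e
      have h3 := hJJi 2
      rw [hJ2, e] at h3
      exact h32 h3
  have hπfix : ∀ i : Fin n, i.val < 4 → ((J * y : ↥(alternatingGroup (Fin n))) : Perm (Fin n)) i = i := by
    have hsub : (y : Perm (Fin n)).support.filter (fun i => ¬ i.val < 4) ⊆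
        ((J * y : ↥(alternatingGroup (Fin n))) : Perm (Fin n)).support := by
      intro i hi
      obtain ⟨hi1, hi2⟩ := Finset.mem_filter.1 hi
      have hy2 : ¬ ((y : Perm (Fin n)) i).val < 4 := fun h => by
        have h1 := hJmove _ h
        have e : cJ n ((y : Perm (Fin n)) i) = (y : Perm (Fin n)) (cJ n i) := Perm.ext_iff.1 hJy.eq i
        rw [e, low _ hJsupp i hi2] at h1
        exact h1 rfl
      rw [mem_support, Subgroup.coe_mul, Perm.mul_apply, show (J : Perm (Fin n)) = cJ n from rfl,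
        low _ hJsupp _ hy2]
      exact mem_support.1 hi1
    have hle : ((y : Perm (Fin n)).support.filter fun i => i.val < 4).card ≤ 4 := by
      refine le_trans (Finset.card_le_card fun i hi => ?_) (Finset.card_le_four (a := (0 : Fin n)) (b := 1) (c := 2) (d := 3))
      simpa using hfour i (Finset.mem_filter.1 hi).2
    have hsum := Finset.card_filter_add_card_filter_not (s := (y : Perm (Fin n)).support) (fun i => i.val < 4)
    rw [hy.2] at hsum
    have heq := Finset.eq_of_subset_of_card_le hsub (by rw [hπ4.2]; omega)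
    intro i hi
    by_contra h
    have := mem_support.2 h
    rw [← heq] at this
    exact (Finset.mem_filter.1 this).2 hi
  obtain ⟨π, hπdef⟩ : ∃ π, π = J * y := ⟨_, rfl⟩
  rw [← hπdef] at hπ4 hπfix
  have hy' : y = J * π := by rw [hπdef, ← mul_assoc, hJJ, one_mul]
  have hepfix : ∀ i : Fin n, i.val < 4 → ((E * π : ↥(alternatingGroup (Fin n))) : Perm (Fin n)) i = i := fun i hi => by
    rw [Subgroup.coe_mul, Perm.mul_apply, hπfix i hi]
    exact by_contra fun h => absurd (hEsupp i h) (by omega)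
  have hly : W * E * y = V * (E * π) := by
    rw [hy', show V = W * J from Subtype.ext hWJ.symm]
    calc W * E * (J * π) = W * (E * J) * π := by group
      _ = _ := by rw [← hJE.eq]; group
  rw [hly] at hk hz
  have hVfix : ∀ i : Fin n, ¬ i.val < 4 → (V : Perm (Fin n)) i = i := low _ hUsupp
  have hVep : Commute V (E * π) := Subtype.ext
    (commute_of_fixed (fun i : Fin n => i.val < 4) hepfix hVfix).symm.eq
  have hV2 : V ^ 2 = 1 := by rw [pow_two, hVV]
  -- any involution outside the first four points is trivial if, with `J` or `V`, it centralises `m`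
  have kill : ∀ (a s : ↥(alternatingGroup (Fin n))), a = J ∨ a = V → s * s = 1 →
      (∀ i : Fin n, i.val < 4 → (s : Perm (Fin n)) i = i) → Commute (C.f (a * s)) m → s = 1 := by
    intro a s ha hs hfix hc'
    by_contra h1
    have ha2 : Two (a : Perm (Fin n)) := by rcases ha with rfl | rfl; exacts [hJ, hU]
    have hafix : ∀ i : Fin n, ¬ i.val < 4 → (a : Perm (Fin n)) i = i := by
      rcases ha with rfl | rfl; exacts [low _ hJsupp, hVfix]
    have h4 := card_ge_four (congrArg Subtype.val hs) s.2 fun e => h1 (Subtype.ext e)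
    have hcs : Commute a s := Subtype.ext (commute_of_fixed (fun i : Fin n => i.val < 4) hfix hafix).symm.eq
    refine hmout (C.safe_big hn (x := a * s) ?_ ?_ hc'.symm)
    · calc a * s * (a * s) = a * (s * a) * s := by group
        _ = a * a * (s * s) := by rw [hcs.symm.eq]; group
        _ = 1 := by rw [hs, mul_one]; exact Subtype.ext ha2.1
    · rw [Subgroup.coe_mul, card_of_fixed (fun i : Fin n => ¬ i.val < 4) hafix (fun i hi => hfix i (not_not.1 hi)),
        ha2.2]
      omega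
  have hepk : (E * π) ^ 2 ^ (k + 1) = 1 := by
    have h : (V * (E * π)) ^ 2 ^ (k + 1) = 1 := by rw [pow_succ, pow_mul, hk, one_pow]
    rwa [hVep.mul_pow, pow_succ, mul_comm, pow_mul, hV2, one_pow, one_mul, mul_comm, ← pow_succ] at h
  have hep1 : E * π = 1 := by
    have hsq : (E * π) ^ 2 = 1 := by
      by_contra hne
      obtain ⟨i, hi1, hi2⟩ := exists_pow_invol k
        (show ((E * π) ^ 2) ^ 2 ^ k = 1 by rw [← pow_mul, ← pow_succ']; exact hepk) hne
      rw [← pow_mul] at hi1 hi2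
      have e : (V * (E * π)) ^ (2 * 2 ^ i) = (E * π) ^ (2 * 2 ^ i) := by
        rw [hVep.mul_pow, pow_mul, hV2, one_pow, one_mul]
      have hm' := hz (2 * 2 ^ i) (by rw [e]; exact hi2)
      rw [e] at hm'
      refine hi1 (kill J _ (Or.inl rfl) hi2 (fun p hp => ?_) ?_)
      · rw [Subgroup.coe_pow]
        exact Perm.pow_apply_eq_self_of_apply_eq_self (hepfix p hp) _
      · rw [map_mul]; exact hmJ.mul_left hm'
    have hm' := hz 1 (by
      rw [pow_one, ← pow_two, hVep.mul_pow, hV2, hsq, one_mul])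
    rw [pow_one] at hm'
    exact kill V _ (Or.inr rfl) (by rw [← pow_two, hsq]) hepfix hm'
  have hπE : π = E := by
    calc π = E * (E * π) := by rw [← mul_assoc, hEE, one_mul]
      _ = E := by rw [hep1, mul_one]
  have hmV : Commute (C.f V) m := by
    have := hz 1 (by rw [pow_one, hep1, mul_one, hVV])
    rwa [pow_one, hep1, mul_one] at this
  have hrV : Commute (C.f V) r := hrc _ (hVl'.map C.f) hmV
  -- the element `Z * m`
  have hZ2 : C.f Z * C.f Z = 1 := by rw [← map_mul, hZZ, map_one]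
  have hm2 : m * m = 1 := conj_sq_one (((C.six _).1 hl).symm.trans hmα) (by
    rw [← map_mul, show (W * E) * (W * E) = 1 from Subtype.ext hl.1, map_one])
  have hZord : orderOf (C.f Z) = 2 := CfsgLib.Invol.orderOf_eq_two hZ2 fun e =>
    hZ.ne_one (congrArg Subtype.val (C.inj (e.trans C.f.map_one.symm)))
  have hmord : orderOf m = 2 := CfsgLib.Invol.orderOf_eq_two hm2 fun e => hmout (e ▸ one_mem _)
  have hZnot : ¬ IsConj (C.f Z) m := fun h =>
    absurd hZ (not_two_of_six ((C.six Z).2 (hmα.trans h.symm)))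
  obtain ⟨hvord, hvZ, hvm⟩ := CfsgLib.Invol.half_props hZord hmord
    (CfsgLib.Invol.even_orderOf_mul_of_not_isConj hZord hmord hZnot)
  obtain ⟨N, hN⟩ : ∃ N, N = orderOf (C.f Z * m) / 2 := ⟨_, rfl⟩
  rw [← hN] at hvord hvZ hvm
  have hDJ : Commute (C.f J) (C.f Z * m) := (hJZ'.map C.f).mul_right hmJ
  have hDV : Commute (C.f V) (C.f Z * m) := (hVZ'.map C.f).mul_right hmV
  have hZJ' : Four ((Z * J : ↥(alternatingGroup (Fin n))) : Perm (Fin n)) := hZJ
  obtain ⟨w, hw⟩ := C.safe_of_four hn hZJ' (c := (C.f Z * m) ^ N) (by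
    rw [map_mul]; exact hvZ.mul_right (hDJ.pow_right N).symm)
  have hw2 : w * w = 1 := C.inj (by rw [map_mul, map_one, hw, CfsgLib.Invol.mul_self_eq_one hvord])
  -- elements commuting with the four group act on the first four points through it
  have inV : ∀ q : ↥(alternatingGroup (Fin n)), Commute (q : Perm (Fin n)) (cJ n) → Commute (q : Perm (Fin n)) (cU n) →
      ∃ s, (s = 1 ∨ s = J ∨ s = V ∨ s = J * V) ∧
        ∀ i : Fin n, i.val < 4 → ((s * q : ↥(alternatingGroup (Fin n))) : Perm (Fin n)) i = i := by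
    intro q hqJ hqU
    have hq0 : ((q : Perm (Fin n)) 0).val < 4 := by
      refine hJsupp _ fun e => hJ0 ((q : Perm (Fin n)).injective ?_)
      rw [← Perm.mul_apply, hqJ.eq, Perm.mul_apply, e]
    obtain ⟨s, hs, hs0⟩ : ∃ s : ↥(alternatingGroup (Fin n)), (s = 1 ∨ s = J ∨ s = V ∨ s = J * V) ∧
        (s : Perm (Fin n)) 0 = (q : Perm (Fin n)) 0 := by
      rcases horb _ hq0 with h | h | h | h
      exacts [⟨1, Or.inl rfl, h⟩, ⟨J, Or.inr (Or.inl rfl), h⟩, ⟨V, Or.inr (Or.inr (Or.inl rfl)), h⟩,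
        ⟨J * V, Or.inr (Or.inr (Or.inr rfl)), h⟩]
    have hss : (s : Perm (Fin n)) * s = 1 ∧ Commute (s : Perm (Fin n)) (cJ n) ∧ Commute (s : Perm (Fin n)) (cU n) := by
      rcases hs with rfl | rfl | rfl | rfl
      · exact ⟨one_mul _, Commute.one_left _, Commute.one_left _⟩
      · exact ⟨hJ.1, Commute.refl _, hJU⟩
      · exact ⟨hU.1, hJU.symm, Commute.refl _⟩
      · refine ⟨?_, (Commute.refl _).mul_left hJU.symm, hJU.mul_left (Commute.refl _)⟩
        show cJ n * cU n * (cJ n * cU n) = 1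
        rw [mul_assoc, ← mul_assoc (cU n), ← hJU.eq, mul_assoc (cJ n) (cU n), hU.1, mul_one, hJ.1]
    refine ⟨s, hs, fun i hi => ?_⟩
    obtain ⟨x, hx⟩ : ∃ x, x = ((s * q : ↥(alternatingGroup (Fin n))) : Perm (Fin n)) := ⟨_, rfl⟩
    rw [← hx]
    rw [Subgroup.coe_mul] at hx
    have hxJ : ∀ a, x (cJ n a) = cJ n (x a) := fun a => by
      rw [hx]; exact Perm.ext_iff.1 (hss.2.1.mul_left hqJ).eq a
    have hxU : ∀ a, x (cU n a) = cU n (x a) := fun a => by
      rw [hx]; exact Perm.ext_iff.1 (hss.2.2.mul_left hqU).eq a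
    have h0 : x 0 = 0 := by rw [hx, Perm.mul_apply, ← hs0, ← Perm.mul_apply, hss.1, Perm.one_apply]
    have h1 : x 1 = 1 := by
      have := hxJ 0
      rwa [hJ01, h0, hJ01] at this
    have h2 : x 2 = 2 := by
      have := hxU 1
      rwa [hU1, h1, hU1] at this
    have h3 : x 3 = 3 := by
      have := hxJ 2
      rwa [hJ2, h2, hJ2] at this
    rcases hfour i hi with rfl | rfl | rfl | rfl <;> assumption
  have hwJ : Commute (w : Perm (Fin n)) J := val_commute C.inj (by rw [hw]; exact (hDJ.pow_right N).symm)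
  have hwV : Commute (w : Perm (Fin n)) V := val_commute C.inj (by rw [hw]; exact (hDV.pow_right N).symm)
  obtain ⟨s, hs, hsfix⟩ := inV w hwJ hwV
  have hsm : Commute (C.f s) m := by
    rcases hs with rfl | rfl | rfl | rfl
    · rw [map_one]; exact Commute.one_left _
    · exact hmJ
    · exact hmV
    · rw [map_mul]; exact hmJ.mul_left hmV
  have hsw : Commute s w := by
    have h1 : Commute J w := Subtype.ext hwJ.symm.eq
    have h2 : Commute V w := Subtype.ext hwV.symm.eq
    rcases hs with rfl | rfl | rfl | rfl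
    exacts [Commute.one_left _, h1, h2, h1.mul_left h2]
  have hs2 : s * s = 1 := by
    rcases hs with rfl | rfl | rfl | rfl
    exacts [one_mul _, hJJ, hVV, by rw [mul_assoc, ← mul_assoc V, ← hJV.eq, mul_assoc J V, hVV, mul_one, hJJ]]
  have hswm : Commute (C.f (J * (s * w))) m := by
    rw [map_mul, map_mul]
    exact hmJ.mul_left (hsm.mul_left (hw ▸ hvm))
  have hws : s * w = 1 := kill J _ (Or.inl rfl)
    (by rw [mul_assoc, ← mul_assoc w, ← hsw.eq, mul_assoc s w, hw2, mul_one, hs2]) hsfix hswm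
  have hwe : w = s := by
    calc w = s * (s * w) := by rw [← mul_assoc, hs2, one_mul]
      _ = s := by rw [hws, mul_one]
  have hs' : s = J ∨ s = V ∨ s = J * V := hs.resolve_left fun e =>
    CfsgLib.Invol.ne_one hvord (by rw [← hw, hwe, e, map_one])
  have hrw' : Commute (C.f s) r := by
    rcases hs' with rfl | rfl | rfl
    exacts [hrJ, hrV, by rw [map_mul]; exact hrJ.mul_left hrV]
  have hw0 : (w : Perm (Fin n)) 0 ≠ 0 := by
    rw [hwe]
    rcases hs' with rfl | rfl | rfl
    exacts [hJ0, hU0, hJU0]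
  have hNeq : orderOf (C.f Z * m) = N + N := by
    obtain ⟨i, hi⟩ := CfsgLib.Invol.even_orderOf_mul_of_not_isConj hZord hmord hZnot
    omega
  obtain ⟨D, hD⟩ : ∃ D, D = C.f Z * m := ⟨_, rfl⟩
  rw [← hD] at hvord hvm hw hNeq hDJ hDV
  have hinv : C.f Z * D * (C.f Z)⁻¹ = D⁻¹ := hD ▸ inverts_mul hZ2 hm2
  rcases Nat.even_or_odd N with ⟨M, hM⟩ | hodd
  · -- the order of `D` is divisible by four
    obtain ⟨p, hp⟩ : ∃ p, p = D ^ M := ⟨_, rfl⟩
    have hpp : p * p = C.f w := by rw [hp, ← pow_add, ← hM, hw]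
    have hp4' : p ^ 2 ^ 2 = 1 := by
      rw [show (2 : ℕ) ^ 2 = 2 + 2 from rfl, pow_add, pow_two, hpp, ← map_mul, hw2, map_one]
    have hpJ : Commute (C.f J) p := hp ▸ hDJ.pow_right M
    have hpV : Commute (C.f V) p := hp ▸ hDV.pow_right M
    have hpinv : C.f Z * p * (C.f Z)⁻¹ = p⁻¹ := by rw [hp, ← conj_pow, hinv, inv_pow]
    have hQ := pgroup_pair hZ2 hpinv hp4' (U := zpowers (C.f J))
      (fun u hu => by
        obtain ⟨i, rfl⟩ := mem_zpowers_iff.1 hu
        rw [← (Commute.refl (C.f J)).mul_zpow, ← map_mul, hJJ, map_one, one_zpow])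
      (fun u hu => by obtain ⟨i, rfl⟩ := mem_zpowers_iff.1 hu; exact (hJZ'.map C.f).zpow_left i)
      (fun u hu => by obtain ⟨i, rfl⟩ := mem_zpowers_iff.1 hu; exact hpJ.zpow_left i)
    have hle := two_le C.six C.two hQ
      (fun e he => C.safe_of_four hn hZJ' (by
        rw [map_mul]
        exact (he _ ((le_sup_right : zpowers (C.f Z) ⊔ zpowers p ≤ _)
          ((le_sup_left : zpowers (C.f Z) ≤ zpowers (C.f Z) ⊔ zpowers p) (mem_zpowers _)))).mul_right
          (he _ ((le_sup_left : zpowers (C.f J) ≤ _) (mem_zpowers _)))))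
      (fun x hx q _ hq => C.cent hn hx hq)
    obtain ⟨q, hq⟩ := hle ((le_sup_right : zpowers (C.f Z) ⊔ zpowers p ≤ _)
      ((le_sup_right : zpowers p ≤ zpowers (C.f Z) ⊔ zpowers p) (mem_zpowers _)))
    have hqJ : Commute (q : Perm (Fin n)) J := val_commute C.inj (by rw [hq]; exact hpJ.symm)
    have hqV : Commute (q : Perm (Fin n)) V := val_commute C.inj (by rw [hq]; exact hpV.symm)
    obtain ⟨t, ht, htfix⟩ := inV q hqJ hqV
    have htq : Commute t q := by
      have h1 : Commute J q := Subtype.ext hqJ.symm.eq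
      have h2 : Commute V q := Subtype.ext hqV.symm.eq
      rcases ht with rfl | rfl | rfl | rfl
      exacts [Commute.one_left _, h1, h2, h1.mul_left h2]
    have ht2 : t * t = 1 := by
      rcases ht with rfl | rfl | rfl | rfl
      exacts [one_mul _, hJJ, hVV, by rw [mul_assoc, ← mul_assoc V, ← hJV.eq, mul_assoc J V, hVV, mul_one, hJJ]]
    have hqw : (t * q) * (t * q) = w := by
      rw [mul_assoc, ← mul_assoc q, ← htq.eq, mul_assoc t q, ← mul_assoc t t, ht2, one_mul]
      exact C.inj (by rw [map_mul, hq, hpp])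
    have h0 : ((0 : Fin n)).val < 4 := by simp
    exact hw0 (by rw [← hqw, Subgroup.coe_mul, Perm.mul_apply, htfix 0 h0, htfix 0 h0])
  · -- the order of `D` is twice an odd number
    have hfw : C.f w * C.f w = 1 := by rw [← map_mul, hw2, map_one]
    have hwm : Commute (C.f w) m := hw ▸ hvm
    have hodd' : Odd (orderOf (C.f Z * (m * C.f w))) := by
      refine Odd.of_dvd_nat hodd (orderOf_dvd_of_pow_eq_one ?_)
      have h1 : C.f Z * (m * C.f w) = D * C.f w := by rw [hD, mul_assoc]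
      have h2 : Commute D (C.f w) := by rw [hw]; exact Commute.self_pow D N
      obtain ⟨i, hi⟩ := hodd
      have h4 : C.f w ^ N = C.f w := by rw [hi, pow_succ, pow_mul, pow_two, hfw, one_pow, one_mul]
      rw [h1, h2.mul_pow, h4, ← hw, hfw]
    have hmw2 : m * C.f w * (m * C.f w) = 1 := by
      calc m * C.f w * (m * C.f w) = m * (C.f w * m) * C.f w := by group
        _ = (m * m) * (C.f w * C.f w) := by rw [hwm.eq]; group
        _ = 1 := by rw [hm2, hfw, one_mul]
    have hmword : orderOf (m * C.f w) = 2 := CfsgLib.Invol.orderOf_eq_two hmw2 fun e => hmout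
      ⟨w, by rw [eq_inv_of_mul_eq_one_left e, inv_eq_of_mul_eq_one_right hfw]⟩
    have hconj := CfsgLib.Invol.isConj_of_odd hZord hmword hodd'
    have hyw : IsConj (C.f Z) (C.f (y * w)) := hconj.trans (isConj_iff.2 ⟨r, by
      rw [map_mul, ← hr, hwe]
      calc r * (m * C.f s) * r⁻¹ = r * m * (C.f s * r⁻¹) := by group
        _ = r * m * (r⁻¹ * C.f s) := by rw [hrw'.inv_right.eq]
        _ = _ := by group⟩)
    have hyval : ((y * w : ↥(alternatingGroup (Fin n))) : Perm (Fin n)) = cJ n * cE4 n * (s : Perm (Fin n)) := by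
      rw [hy', hπE, hwe]; rfl
    have hs3 : (s : Perm (Fin n)) = cJ n ∨ (s : Perm (Fin n)) = cU n ∨ (s : Perm (Fin n)) = cJ n * cU n := by
      rcases hs' with rfl | rfl | rfl
      exacts [Or.inl rfl, Or.inr (Or.inl rfl), Or.inr (Or.inr rfl)]
    rcases last_facts hn hs3 with h | h
    · exact C.twoFour Z (y * w) hZ (hyval ▸ h) hyw
    · exact absurd hZ (not_two_of_six ((C.six Z).2 (((C.six _).1 (hyval ▸ h)).trans hyw.symm)))

theorem surjective (hn : n = 12 ∨ n = 13) : Function.Surjective C.f := by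
  rw [← MonoidHom.range_eq_top, eq_top_iff]
  intro g _
  by_contra hg
  obtain ⟨x₀, h₀, e₀⟩ := C.six_val hn
  obtain ⟨m, hm⟩ : ∃ m, m = g * α * g⁻¹ := ⟨_, rfl⟩
  have hout : m ∉ C.f.range := fun h => hg (C.stab_mem hn h₀ (by rw [e₀]; exact hm ▸ h))
  have hmα : IsConj α m := isConj_iff.2 ⟨g, hm.symm⟩
  obtain ⟨hJ, -, -, hJs, -⟩ := v_facts hn
  let J : ↥(alternatingGroup (Fin n)) := ⟨cJ n, mem_alternatingGroup.2 hJs⟩
  have hα2 : α * α = 1 := by
    rw [← e₀, ← map_mul, show x₀ * x₀ = 1 from Subtype.ext h₀.1, map_one]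
  have hmord : orderOf m = 2 :=
    CfsgLib.Invol.orderOf_eq_two (conj_sq_one hmα hα2) fun e => hout (e ▸ one_mem _)
  have hJord : orderOf (C.f J) = 2 := CfsgLib.Invol.orderOf_eq_two
    (by rw [← map_mul, show J * J = 1 from Subtype.ext hJ.1, map_one])
    fun e => hJ.ne_one (congrArg Subtype.val (C.inj (e.trans C.f.map_one.symm)))
  obtain ⟨v, hv, hvJ, hvm⟩ := CfsgLib.Invol.exists_commuting_invol hJord hmord
    fun h => absurd hJ (not_two_of_six ((C.six J).2 (hmα.trans h.symm)))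
  obtain ⟨w, rfl⟩ := C.safe_two hn (x := J) hJ hvJ
  have hw2 : w * w = 1 := C.inj (by rw [map_mul, map_one, CfsgLib.Invol.mul_self_eq_one hv])
  have hw1 : (w : Perm (Fin n)) ≠ 1 := fun e => CfsgLib.Invol.ne_one hv (by
    rw [show w = 1 from Subtype.ext e, map_one])
  rcases invol_cases (by omega) (congrArg Subtype.val hw2) w.2 hw1 with h | h | h
  exacts [hout (C.safe_two hn h hvm.symm), hout (C.safe_of_four hn h hvm.symm), hout (C.cent hn h hvm.symm)]

end Core

end CfsgLib.Alt12Inv
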