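import Cfsg.Agent.Alt12Inv.ClosePerm
import Mathlib.Tactic.FinCases

/-!
# Concrete facts about the closing permutations
-/

set_option autoImplicit false
set_option maxRecDepth 100000

namespace CfsgLib.Alt12Inv

open Equiv Equiv.Perm

variable {n : ℕ} [inst : NeZero n]

theorem four_facts (hn : n = 12 ∨ n = 13) :
    Four (pFour n) ∧ sign (pFour n) = 1 ∧ (∀ i : Fin n, pFour n i ≠ i → i.val < 8) ∧
      (∀ i : Fin n, i.val < 8 → pFour n i ≠ i) := by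
  rcases hn with rfl | rfl <;>
    (obtain rfl : inst = ⟨by norm_num⟩ := Subsingleton.elim _ _; unfold Four; decide +kernel)

theorem e2_facts (hn : n = 12 ∨ n = 13) :
    Two (cE2 n) ∧ sign (cE2 n) = 1 ∧ (∀ i : Fin n, cE2 n i ≠ i → 8 ≤ i.val) ∧
      Six (pFour n * cE2 n) ∧ ((Finset.univ : Finset (Fin n)).filter fun i => 8 ≤ i.val).card ≤ 5 := by
  rcases hn with rfl | rfl <;>
    (obtain rfl : inst = ⟨by norm_num⟩ := Subsingleton.elim _ _; unfold Two Six; decide +kernel)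

theorem reg_facts (hn : n = 12 ∨ n = 13) {ρ : Perm (Fin n)} (hρ : ρ = pReg₁ n ∨ ρ = pReg₂ n) :
    Four ρ ∧ sign ρ = 1 ∧ Commute ρ (pFour n) ∧ (∀ i : Fin n, ρ i ≠ i → i.val < 8) ∧
      Six (ρ * pFour n * cE2 n) := by
  rcases hn with rfl | rfl <;> rcases hρ with rfl | rfl <;>
    (obtain rfl : inst = ⟨by norm_num⟩ := Subsingleton.elim _ _; unfold Four Six Commute SemiconjBy; decide +kernel)

theorem v_facts (hn : n = 12 ∨ n = 13) :
    Two (cJ n) ∧ Two (cU n) ∧ Two (cW n) ∧ sign (cJ n) = 1 ∧ sign (cU n) = 1 ∧ sign (cW n) = 1 ∧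
      cW n * cJ n = cU n ∧ Commute (cJ n) (cU n) ∧ Commute (cJ n) (cW n) ∧
      (∀ i : Fin n, cJ n i ≠ i → i.val < 4) ∧ (∀ i : Fin n, cU n i ≠ i → i.val < 4) ∧
      (∀ i : Fin n, cW n i ≠ i → i.val < 4) := by
  rcases hn with rfl | rfl <;>
    (obtain rfl : inst = ⟨by norm_num⟩ := Subsingleton.elim _ _; unfold Two Commute SemiconjBy; decide +kernel)

theorem e4_facts (hn : n = 12 ∨ n = 13) :
    Four (cE4 n) ∧ sign (cE4 n) = 1 ∧ (∀ i : Fin n, cE4 n i ≠ i → 4 ≤ i.val) ∧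
      Six (cJ n * cE4 n) ∧ Six (cW n * cE4 n) ∧ Commute (cJ n) (cW n * cE4 n) ∧
      Commute (cU n) (cW n * cE4 n) ∧ Commute (cJ n) (cJ n * cE4 n) := by
  rcases hn with rfl | rfl <;>
    (obtain rfl : inst = ⟨by norm_num⟩ := Subsingleton.elim _ _; unfold Four Six Commute SemiconjBy; decide +kernel)

theorem z_facts (hn : n = 12 ∨ n = 13) :
    Two (cZ n) ∧ sign (cZ n) = 1 ∧ Commute (cJ n) (cZ n) ∧ Commute (cU n) (cZ n) ∧ Four (cZ n * cJ n) := by
  rcases hn with rfl | rfl <;>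
    (obtain rfl : inst = ⟨by norm_num⟩ := Subsingleton.elim _ _; unfold Two Four Commute SemiconjBy; decide +kernel)

/-- The four group on the first four points is transitive, and its nontrivial elements move `0`. -/
theorem v_orbit (hn : n = 12 ∨ n = 13) :
    (∀ i : Fin n, i.val < 4 → (1 : Perm (Fin n)) 0 = i ∨ cJ n 0 = i ∨ cU n 0 = i ∨ (cJ n * cU n) 0 = i) ∧
      cJ n 0 ≠ 0 ∧ cU n 0 ≠ 0 ∧ (cJ n * cU n) 0 ≠ 0 ∧
      (cJ n 0).val < 4 ∧ (cJ n 1) = 0 ∧ cJ n 0 = 1 ∧ cU n 1 = 2 ∧ cJ n 2 = 3 ∧ (3 : Fin n) ≠ 2 ∧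
      ∀ i : Fin n, i.val < 4 → i = 0 ∨ i = 1 ∨ i = 2 ∨ i = 3 := by
  rcases hn with rfl | rfl <;>
    (obtain rfl : inst = ⟨by norm_num⟩ := Subsingleton.elim _ _; decide +kernel)

/-- The products occurring at the end. -/
theorem last_facts (hn : n = 12 ∨ n = 13) {s : Perm (Fin n)} (hs : s = cJ n ∨ s = cU n ∨ s = cJ n * cU n) :
    Four (cJ n * cE4 n * s) ∨ Six (cJ n * cE4 n * s) := by
  rcases hn with rfl | rfl <;> rcases hs with rfl | rfl | rfl <;>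
    (obtain rfl : inst = ⟨by norm_num⟩ := Subsingleton.elim _ _; unfold Four Six; decide +kernel)

end CfsgLib.Alt12Inv
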