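import Cfsg.Agent.Alt12Inv.CloseSplit
import Cfsg.Agent.Alt12Inv.CloseFacts

/-!
# Classes seen through the embedding
-/

set_option autoImplicit false
set_option linter.unusedSectionVars false

namespace CfsgLib.Alt12Inv

open Equiv Equiv.Perm

universe u

variable {G : Type u} [Group G] {α : G} {n : ℕ} {K : Subgroup (Perm (Fin n))} {f : ↥K →* G}

theorem not_two_of_six {x : Perm (Fin n)} (h : Six x) : ¬ Two x := fun h' => by
  have := h.2.symm.trans h'.2
  omega

theorem not_four_of_six {x : Perm (Fin n)} (h : Six x) : ¬ Four x := fun h' => by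
  have := h.2.symm.trans h'.2
  omega

theorem val_commute (hf : Function.Injective f) {x y : ↥K} (h : Commute (f x) (f y)) :
    Commute (x : Perm (Fin n)) y :=
  congrArg Subtype.val (hf (by rw [map_mul, map_mul]; exact h.eq) : x * y = y * x)

theorem two_of_conj (hn : n ≤ 13) (hA : K ≤ alternatingGroup (Fin n)) (hf : Function.Injective f)
    (six : ∀ x : ↥K, Six (x : Perm (Fin n)) ↔ IsConj α (f x))
    (twoFour : ∀ x y : ↥K, Two (x : Perm (Fin n)) → Four (y : Perm (Fin n)) → ¬ IsConj (f x) (f y))
    {x y : ↥K} (hx : Two (x : Perm (Fin n))) (h : IsConj (f x) (f y)) : Two (y : Perm (Fin n)) := by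
  have hy2 : y * y = 1 :=
    hf (by rw [map_mul, map_one]; exact conj_sq_one h (by
      rw [← map_mul, show x * x = 1 from Subtype.ext hx.1, map_one]))
  have hy1 : (y : Perm (Fin n)) ≠ 1 := fun e => by
    obtain rfl : y = 1 := Subtype.ext e
    rw [map_one] at h
    have e1 : x = 1 := hf (by rw [map_one]; exact isConj_one_left.1 h)
    exact hx.ne_one (congrArg Subtype.val e1)
  rcases invol_cases hn (congrArg Subtype.val hy2) (hA y.2) hy1 with h' | h' | h'
  · exact h'
  · exact absurd h (twoFour x y hx h')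
  · exact absurd hx (not_two_of_six ((six x).2 (((six y).1 h').trans h.symm)))

theorem four_of_conj (hn : n ≤ 13) (hA : K ≤ alternatingGroup (Fin n)) (hf : Function.Injective f)
    (six : ∀ x : ↥K, Six (x : Perm (Fin n)) ↔ IsConj α (f x))
    (twoFour : ∀ x y : ↥K, Two (x : Perm (Fin n)) → Four (y : Perm (Fin n)) → ¬ IsConj (f x) (f y))
    {x y : ↥K} (hx : Four (x : Perm (Fin n))) (h : IsConj (f x) (f y)) : Four (y : Perm (Fin n)) := by
  have hy2 : y * y = 1 :=
    hf (by rw [map_mul, map_one]; exact conj_sq_one h (by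
      rw [← map_mul, show x * x = 1 from Subtype.ext hx.1, map_one]))
  have hy1 : (y : Perm (Fin n)) ≠ 1 := fun e => by
    obtain rfl : y = 1 := Subtype.ext e
    rw [map_one] at h
    have e1 : x = 1 := hf (by rw [map_one]; exact isConj_one_left.1 h)
    exact hx.ne_one (congrArg Subtype.val e1)
  rcases invol_cases hn (congrArg Subtype.val hy2) (hA y.2) hy1 with h' | h' | h'
  · exact absurd h.symm (twoFour y x h' hx)
  · exact h'
  · exact absurd hx (not_four_of_six ((six x).2 (((six y).1 h').trans h.symm)))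

/-- Centralisers inside the range are carried along conjugation inside. -/
theorem cent_of_conj {x y k : ↥K} (hk : k * x * k⁻¹ = y)
    (h : ∀ c, Commute c (f x) → c ∈ f.range) {c : G} (hc : Commute c (f y)) : c ∈ f.range := by
  rw [← hk, map_mul, map_mul, map_inv] at hc
  have h1 := h ((f k)⁻¹ * c * f k) (by
    have := (Commute.conj_iff (f k)⁻¹).2 hc
    simpa [mul_assoc] using this)
  have := mul_mem (mul_mem (show f k ∈ f.range from ⟨k, rfl⟩) h1) (inv_mem (show f k ∈ f.range from ⟨k, rfl⟩))
  simpa [mul_assoc] using this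

end CfsgLib.Alt12Inv
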