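import Cfsg.Agent.Alt12Inv.CloseClasses

/-!
# The centralizer of an involution with four cycles is inside
-/

set_option autoImplicit false
set_option linter.unusedSectionVars false

namespace CfsgLib.Alt12Inv

open Equiv Equiv.Perm Subgroup

universe u

theorem safe_four {G : Type u} [Group G] [Finite G] {α : G} {n : ℕ} [NeZero n] (hn : n = 12 ∨ n = 13)
    {K : Subgroup (Perm (Fin n))} (hK : ∀ x, x ∈ K ↔ x ∈ alternatingGroup (Fin n) ∧ Commute x (pFour n))
    (f : ↥K →* G) (hf : Function.Injective f) {j a b : ↥K} (hj : (j : Perm (Fin n)) = pFour n)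
    (ha : (a : Perm (Fin n)) = pReg₁ n) (hb : (b : Perm (Fin n)) = pReg₂ n)
    (six : ∀ x : ↥K, Six (x : Perm (Fin n)) ↔ IsConj α (f x))
    (twoFour : ∀ x y : ↥K, Two (x : Perm (Fin n)) → Four (y : Perm (Fin n)) → ¬ IsConj (f x) (f y))
    (sixCent : ∀ x : ↥K, Six (x : Perm (Fin n)) → ∀ c, Commute c (f j) → Commute c (f x) → c ∈ f.range)
    (reg : ∀ c, Commute c (f j) → Commute c (f a) → Commute c (f b) → c ∈ f.range)
    (two : ∀ P : Subgroup G, IsPGroup 2 P → ∃ g, ∀ p ∈ P, Commute p (g * α * g⁻¹)) :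
    ∀ c, Commute c (f j) → c ∈ f.range := by
  intro c hc
  by_contra hout
  have hn13 : n ≤ 13 := by omega
  obtain ⟨hp4, hp4s, hp4lt, hp4ge⟩ := four_facts hn
  obtain ⟨hE, hEs, hEsupp, hl2six, houter⟩ := e2_facts hn
  have hA : K ≤ alternatingGroup (Fin n) := fun x hx => ((hK x).1 hx).1
  have hp : ∀ x : Perm (Fin n), (∀ i, x i ≠ i → 8 ≤ i.val) → Commute x (pFour n) := fun x hx =>
    commute_of_fixed (fun i => i.val < 8) (fun i hi => by_contra fun e => absurd (hx i e) (by omega))
      (fun i hi => by_contra fun e => hi (hp4lt i e))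
  let e : ↥K := ⟨cE2 n, (hK _).2 ⟨mem_alternatingGroup.2 hEs, hp _ hEsupp⟩⟩
  have hje : Commute j e := Subtype.ext (by
    show (j : Perm (Fin n)) * cE2 n = cE2 n * j
    rw [hj]; exact (hp _ hEsupp).symm.eq)
  have hjj : j * j = 1 := Subtype.ext (by show (j : Perm (Fin n)) * j = 1; rw [hj]; exact hp4.1)
  have hl2 : Six ((j * e : ↥K) : Perm (Fin n)) := by
    show Six ((j : Perm (Fin n)) * cE2 n)
    rw [hj]; exact hl2six
  obtain ⟨m, hm⟩ : ∃ m, m = c * f (j * e) * c⁻¹ := ⟨_, rfl⟩
  have hmα : IsConj α m := ((six _).1 hl2).trans (isConj_iff.2 ⟨c, hm.symm⟩)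
  have hcj : Commute (f j) (f (j * e)) := ((Commute.refl j).mul_right hje).map f
  have hmj : Commute (f j) m := hm ▸ (hc.symm.mul_right hcj).mul_right hc.symm.inv_right
  have hjm : IsConj (f e) (f j * m) := isConj_iff.2 ⟨c, by
    have h1 : f e = f j * f (j * e) := by rw [← map_mul, ← mul_assoc, hjj, one_mul]
    rw [h1, hm]
    calc c * (f j * f (j * e)) * c⁻¹ = c * f j * f (j * e) * c⁻¹ := by group
      _ = _ := by rw [hc.eq]; group⟩
  -- an inside conjugate commuting with `j` is `j` times an outer double transposition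
  have outer : ∀ y : ↥K, Six (y : Perm (Fin n)) → IsConj (f e) (f (j * y)) →
      Two ((j * y : ↥K) : Perm (Fin n)) ∧ ∀ i, ((j * y : ↥K) : Perm (Fin n)) i ≠ i → 8 ≤ i.val := by
    intro y hy hjy
    have h2 := two_of_conj hn13 hA hf six twoFour (show Two (e : Perm (Fin n)) from hE) hjy
    refine ⟨h2, ?_⟩
    have he : (y : Perm (Fin n)) = pFour n * ((j * y : ↥K) : Perm (Fin n)) := by
      rw [← hj, ← Subgroup.coe_mul, ← mul_assoc, hjj, one_mul]
    have h12 : (pFour n * ((j * y : ↥K) : Perm (Fin n))).support.card = 12 := he ▸ hy.2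
    have hsub := (Finset.card_le_card (support_mul_le (pFour n) ((j * y : ↥K) : Perm (Fin n))))
    rw [h12] at hsub
    have hu := Finset.card_union_add_card_inter (pFour n).support ((j * y : ↥K) : Perm (Fin n)).support
    rw [hp4.2, h2.2] at hu
    simp only [Finset.sup_eq_union] at hsub
    have hi : ((pFour n).support ∩ ((j * y : ↥K) : Perm (Fin n)).support) = ∅ :=
      Finset.card_eq_zero.1 (by omega)
    intro i hi'
    by_contra hlt
    have hmem : i ∈ (pFour n).support ∩ ((j * y : ↥K) : Perm (Fin n)).support :=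
      Finset.mem_inter.2 ⟨mem_support.2 (hp4ge i (by omega)), mem_support.2 hi'⟩
    rw [hi] at hmem
    exact absurd hmem (Finset.notMem_empty i)
  have hmout : m ∉ f.range := by
    rintro ⟨x, hx⟩
    have hx6 : Six (x : Perm (Fin n)) := (six x).2 (hx ▸ hmα)
    obtain ⟨hπ, hπs⟩ := outer x hx6 (by rw [map_mul, hx]; exact hjm)
    obtain ⟨k, hk, hkfix, hkc⟩ := exists_conj_on (fun i => 8 ≤ i.val) hE.1 hπ.1 hE.ne_one hEsupp hπs
      (hE.2.trans hπ.2.symm)
    have hkp : Commute k (pFour n) := hp k fun i hi => by_contra fun h => hi (hkfix i h)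
    let k' : ↥K := ⟨k, (hK k).2 ⟨hk, hkp⟩⟩
    have hkj : Commute k' j := Subtype.ext (by
      show k * (j : Perm (Fin n)) = j * k
      rw [hj]; exact hkp.eq)
    have hkx : k' * (j * e) * k'⁻¹ = x := by
      have h1 : k' * e * k'⁻¹ = j * x := Subtype.ext hkc
      calc k' * (j * e) * k'⁻¹ = k' * j * e * k'⁻¹ := by group
        _ = j * (k' * e * k'⁻¹) := by rw [hkj.eq]; group
        _ = x := by rw [h1, ← mul_assoc, hjj, one_mul]
    have hc' : Commute ((f k')⁻¹ * c) (f (j * e)) := by
      refine mul_inv_eq_iff_eq_mul.1 ?_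
      calc (f k')⁻¹ * c * f (j * e) * ((f k')⁻¹ * c)⁻¹ = (f k')⁻¹ * m * f k' := by rw [hm]; group
        _ = f (j * e) := by rw [← hx, ← hkx, map_mul, map_mul, map_inv]; group
    have h := sixCent _ hl2 _ ((hkj.map f).inv_left.mul_left hc) hc'
    exact hout (by simpa using mul_mem (show f k' ∈ f.range from ⟨k', rfl⟩) h)
  -- the regular group centralises `m`
  have step : ∀ (ρ : ↥K), ((ρ : Perm (Fin n)) = pReg₁ n ∨ (ρ : Perm (Fin n)) = pReg₂ n) →
      Commute m (f ρ) := by
    intro ρ hρ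
    obtain ⟨hρ4, -, hρj', hρlt, hl6⟩ := reg_facts hn hρ
    have hρj : Commute ρ j := Subtype.ext (by
      show (ρ : Perm (Fin n)) * j = j * ρ
      rw [hj]; exact hρj'.eq)
    have hρe : Commute ρ e := Subtype.ext (commute_of_fixed (fun i => 8 ≤ i.val)
      (fun i hi => by_contra fun h => absurd (hρlt i h) (by omega))
      (fun i hi => by_contra fun h => hi (hEsupp i h))).eq
    have hl : Six ((ρ * j * e : ↥K) : Perm (Fin n)) := by
      show Six ((ρ : Perm (Fin n)) * (j : Perm (Fin n)) * cE2 n)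
      rw [hj]; exact hl6
    have hjl : Commute j (ρ * j * e) := (hρj.symm.mul_right (Commute.refl j)).mul_right hje
    obtain ⟨y, r, hy, hr, hrc, ⟨k, hk⟩, hz⟩ := split (P := fun x : ↥K => Six (x : Perm (Fin n))) hf six
      (fun x hx => Subtype.ext hx.1) two (U := zpowers (f j))
      (fun u hu => by
        obtain ⟨i, rfl⟩ := mem_zpowers_iff.1 hu
        rw [← (Commute.refl (f j)).mul_zpow, ← map_mul, hjj, map_one, one_zpow])
      (fun x hx d hd => sixCent x hx d (hd _ (mem_zpowers _))) hmα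
      (fun u hu => by obtain ⟨i, rfl⟩ := mem_zpowers_iff.1 hu; exact hmj.zpow_left i)
      hl
      (fun u hu => by obtain ⟨i, rfl⟩ := mem_zpowers_iff.1 hu; exact (hjl.map f).zpow_left i)
    have hrj : Commute (f j) r := hrc _ (hjl.map f) hmj
    have hjy' : Commute (f j) (f y) := hr ▸ (hrj.mul_right hmj).mul_right hrj.inv_right
    have hjy : Commute j y := Subtype.ext (val_commute hf hjy').eq
    obtain ⟨hπ, hπs⟩ := outer y hy (hjm.trans (isConj_iff.2 ⟨r, by
      rw [map_mul, ← hr]
      calc r * (f j * m) * r⁻¹ = r * f j * m * r⁻¹ := by group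
        _ = _ := by rw [← hrj.eq]; group⟩))
    obtain ⟨π, hπdef⟩ : ∃ π, π = j * y := ⟨_, rfl⟩
    rw [← hπdef] at hπ hπs
    have hy' : y = j * π := by rw [hπdef, ← mul_assoc, hjj, one_mul]
    have hρπ : Commute ρ (e * π) := by
      refine hρe.mul_right (Subtype.ext (commute_of_fixed (fun i => 8 ≤ i.val)
        (fun i hi => by_contra fun h => absurd (hρlt i h) (by omega))
        (fun i hi => by_contra fun h => hi (hπs i h))).eq)
    have hly : ρ * j * e * y = ρ * (e * π) := by
      rw [hy']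
      calc ρ * j * e * (j * π) = ρ * (j * (e * j)) * π := by group
        _ = ρ * (j * (j * e)) * π := by rw [hje.symm.eq]
        _ = _ := by rw [← mul_assoc j j, hjj, one_mul]; group
    rw [hly] at hk hz
    have hepfix : ∀ i, i.val < 8 → ((e * π : ↥K) : Perm (Fin n)) i = i := fun i hi => by
      rw [Subgroup.coe_mul, Perm.mul_apply, by_contra fun h => absurd (hπs i h) (by omega)]
      exact by_contra fun h => absurd (hEsupp i h) (by omega)
    have hsmall : ((e * π : ↥K) : Perm (Fin n)).support.card ≤ 5 :=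
      (Finset.card_le_card fun i hi => Finset.mem_filter.2 ⟨Finset.mem_univ _, by
        by_contra h
        exact mem_support.1 hi (hepfix i (by omega))⟩).trans houter
    have hρ2 : ρ ^ 2 = 1 := Subtype.ext (by rw [pow_two]; exact hρ4.1)
    have hep2 : ((e * π : ↥K) : Perm (Fin n)) ^ 2 ^ (k + 1) = 1 := by
      have h : (ρ * (e * π)) ^ 2 ^ (k + 1) = 1 := by rw [pow_succ, pow_mul, hk, one_pow]
      rw [hρπ.mul_pow, pow_succ, mul_comm, pow_mul, hρ2, one_pow, one_mul, mul_comm, ← pow_succ] at h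
      exact congrArg Subtype.val h
    have hsq : (e * π) * (e * π) = 1 := Subtype.ext (sq_one_of_small (hA (e * π).2) hsmall hep2)
    have hz1 : (ρ * (e * π)) * (ρ * (e * π)) = 1 := by
      calc ρ * (e * π) * (ρ * (e * π)) = ρ * (e * π * ρ) * (e * π) := by group
        _ = ρ * ρ * ((e * π) * (e * π)) := by rw [hρπ.symm.eq]; group
        _ = 1 := by rw [hsq, mul_one, ← pow_two, hρ2]
    have hm' := hz 1 (by rw [pow_one]; exact hz1)
    rw [pow_one] at hm'
    by_cases h1 : ((e * π : ↥K) : Perm (Fin n)) = 1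
    · rw [show e * π = 1 from Subtype.ext h1, mul_one] at hm'
      exact hm'.symm
    refine absurd (sixCent _ ⟨congrArg Subtype.val hz1, ?_⟩ m hmj.symm hm'.symm) hmout
    have h4 := card_ge_four (congrArg Subtype.val hsq) (hA (e * π).2) h1
    obtain ⟨q, hq⟩ := four_dvd_card_support (congrArg Subtype.val hsq) (hA (e * π).2)
    rw [Subgroup.coe_mul, card_of_fixed (fun i => 8 ≤ i.val)
      (fun i hi => by_contra fun h => absurd (hρlt i h) (by omega)) (fun i hi => hepfix i (by omega)),
      hρ4.2]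
    omega
  exact hmout (reg m hmj.symm (step a (Or.inl ha)) (step b (Or.inr hb)))

end CfsgLib.Alt12Inv
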