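import Cfsg.Agent.Alt12Inv.Defs
import Mathlib.GroupTheory.Perm.Cycle.Type

/-!
# Involutions of the alternating groups of degree at most thirteen
-/

set_option autoImplicit false

namespace CfsgLib.Alt12Inv

open Equiv Equiv.Perm

variable {n : ℕ} {x y : Perm (Fin n)}

theorem cycleType_invol (hx : x * x = 1) :
    x.cycleType = Multiset.replicate (Multiset.card x.cycleType) 2 := by
  refine Multiset.eq_replicate_card.2 fun c hc => ?_
  have h1 : c ∣ 2 := (dvd_of_mem_cycleType hc).trans (orderOf_dvd_of_pow_eq_one (by rw [pow_two, hx]))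
  have := two_le_of_mem_cycleType hc
  have := Nat.le_of_dvd (by norm_num) h1
  omega

theorem card_support_invol (hx : x * x = 1) : x.support.card = 2 * Multiset.card x.cycleType := by
  have h := sum_cycleType x
  rw [cycleType_invol hx, Multiset.sum_replicate, smul_eq_mul] at h
  omega

theorem four_dvd_card_support (hx : x * x = 1) (hA : x ∈ alternatingGroup (Fin n)) :
    4 ∣ x.support.card := by
  have h : sign x = 1 := mem_alternatingGroup.1 hA
  rw [sign_of_cycleType, sum_cycleType, card_support_invol hx] at h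
  rcases Nat.even_or_odd (2 * Multiset.card x.cycleType + Multiset.card x.cycleType) with he | ho
  · obtain ⟨i, hi⟩ := he
    exact ⟨Multiset.card x.cycleType / 2, by rw [card_support_invol hx]; omega⟩
  · rw [ho.neg_one_pow] at h
    exact absurd h (by decide)

theorem card_ge_four (hx : x * x = 1) (hA : x ∈ alternatingGroup (Fin n)) (h1 : x ≠ 1) :
    4 ≤ x.support.card := by
  have h0 : x.support.card ≠ 0 := fun h => h1 (card_support_eq_zero.1 h)
  obtain ⟨c, hc⟩ := four_dvd_card_support hx hA
  omega

theorem invol_cases (hn : n ≤ 13) (hx : x * x = 1) (hA : x ∈ alternatingGroup (Fin n)) (h1 : x ≠ 1) :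
    Two x ∨ Four x ∨ Six x := by
  have h4 := card_ge_four hx hA h1
  obtain ⟨c, hc⟩ := four_dvd_card_support hx hA
  have hle := x.support.card_le_univ
  rw [Fintype.card_fin] at hle
  rcases (show c = 1 ∨ c = 2 ∨ c = 3 by omega) with rfl | rfl | rfl
  exacts [Or.inl ⟨hx, hc⟩, Or.inr (Or.inl ⟨hx, hc⟩), Or.inr (Or.inr ⟨hx, hc⟩)]

/-- An even permutation of 2-power order moving at most five points squares to one. -/
theorem sq_one_of_small (hA : x ∈ alternatingGroup (Fin n)) (h5 : x.support.card ≤ 5) {k : ℕ}
    (hk : x ^ 2 ^ k = 1) : x * x = 1 := by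
  have hmem : ∀ c ∈ x.cycleType, c = 2 := by
    intro c hc
    obtain ⟨i, -, rfl⟩ := (Nat.dvd_prime_pow Nat.prime_two).1
      ((dvd_of_mem_cycleType hc).trans (orderOf_dvd_of_pow_eq_one hk))
    obtain ⟨t, ht⟩ := Multiset.exists_cons_of_mem hc
    have hs := sum_cycleType x
    rw [ht, Multiset.sum_cons] at hs
    rcases i with _ | _ | _ | i
    · exact absurd (two_le_of_mem_cycleType hc) (by norm_num)
    · rfl
    · exfalso
      have ht0 : t = 0 := Multiset.eq_zero_of_forall_notMem fun d hd => by
        have h2 := two_le_of_mem_cycleType (show d ∈ x.cycleType by rw [ht]; exact Multiset.mem_cons_of_mem hd)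
        have := Multiset.le_sum_of_mem hd
        norm_num at hs
        omega
      have h : sign x = 1 := mem_alternatingGroup.1 hA
      rw [sign_of_cycleType, ht, ht0] at h
      exact absurd h (by decide)
    · exfalso
      have : 2 ^ 3 ≤ 2 ^ (i + 1 + 1 + 1) := Nat.pow_le_pow_right (by norm_num) (by omega)
      omega
  have h : orderOf x ∣ 2 := by
    rw [← lcm_cycleType]
    exact Multiset.lcm_dvd.2 fun c hc => (hmem c hc).symm ▸ dvd_rfl
  rw [← pow_two]
  exact orderOf_dvd_iff_pow_eq_one.1 h

/-- Involutions with as many moved points, all in a set, are conjugate by an even permutation of that set. -/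
theorem exists_conj_on (p : Fin n → Prop) [DecidablePred p] (hx : x * x = 1) (hy : y * y = 1)
    (hx1 : x ≠ 1) (hxp : ∀ i, x i ≠ i → p i) (hyp : ∀ i, y i ≠ i → p i)
    (hc : x.support.card = y.support.card) :
    ∃ k ∈ alternatingGroup (Fin n), (∀ i, ¬ p i → k i = i) ∧ k * x * k⁻¹ = y := by
  have inv : ∀ z : Perm (Fin n), (∀ i, z i ≠ i → p i) → ∀ i, p (z i) ↔ p i := by
    intro z hz i
    by_cases h : z i = i
    · rw [h]
    · exact iff_of_true (hz _ fun e => h (z.injective e)) (hz _ h)
  set x' := x.subtypePerm (inv x hxp) with hx'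
  set y' := y.subtypePerm (inv y hyp) with hy'
  have ex : ofSubtype x' = x := ofSubtype_subtypePerm _ hxp
  have ey : ofSubtype y' = y := ofSubtype_subtypePerm _ hyp
  have hct : x.cycleType = y.cycleType := by
    rw [cycleType_invol hx, cycleType_invol hy]
    have h1 := card_support_invol hx
    have h2 := card_support_invol hy
    congr 1
    omega
  rw [← ex, ← ey, cycleType_ofSubtype, cycleType_ofSubtype] at hct
  obtain ⟨k₀, hk₀⟩ := isConj_iff.1 (isConj_iff_cycleType_eq.2 hct)
  have hk : ofSubtype k₀ * x * (ofSubtype k₀)⁻¹ = y := by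
    rw [← ex, ← map_inv, ← map_mul, ← map_mul, hk₀, ey]
  have hfix : ∀ i, ¬ p i → ofSubtype k₀ i = i := fun i hi => ofSubtype_apply_of_not_mem k₀ hi
  rcases Int.units_eq_one_or (sign (ofSubtype k₀)) with hs | hs
  · exact ⟨_, mem_alternatingGroup.2 hs, hfix, hk⟩
  obtain ⟨a, ha⟩ : ∃ a, x a ≠ a := by
    by_contra h
    push Not at h
    exact hx1 (Equiv.ext h)
  have hxx : x (x a) = a := by rw [← Perm.mul_apply, hx, Perm.one_apply]
  have hcom : swap a (x a) * x * (swap a (x a))⁻¹ = x := by
    have e : x * swap a (x a) * x⁻¹ = swap a (x a) := by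
      rw [← swap_apply_apply, hxx, swap_comm]
    rw [mul_inv_eq_iff_eq_mul]
    exact (mul_inv_eq_iff_eq_mul.1 e).symm
  refine ⟨ofSubtype k₀ * swap a (x a), ?_, fun i hi => ?_, ?_⟩
  · rw [mem_alternatingGroup, map_mul, hs, sign_swap (Ne.symm ha)]
    decide
  · rw [Perm.mul_apply, swap_apply_of_ne_of_ne (fun e => hi (by rw [e]; exact hxp a ha))
      (fun e => hi (by rw [e]; exact (inv x hxp a).2 (hxp a ha))), hfix i hi]
  · calc ofSubtype k₀ * swap a (x a) * x * (ofSubtype k₀ * swap a (x a))⁻¹
        = ofSubtype k₀ * (swap a (x a) * x * (swap a (x a))⁻¹) * (ofSubtype k₀)⁻¹ := by group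
      _ = y := by rw [hcom, hk]

/-- Involutions of the same kind are conjugate in the alternating group. -/
theorem exists_conj_alt (hx : x * x = 1) (hy : y * y = 1) (hx1 : x ≠ 1)
    (hc : x.support.card = y.support.card) :
    ∃ k ∈ alternatingGroup (Fin n), k * x * k⁻¹ = y := by
  obtain ⟨k, hk, -, h⟩ := exists_conj_on (fun _ => True) hx hy hx1 (fun _ _ => trivial) (fun _ _ => trivial) hc
  exact ⟨k, hk, h⟩

theorem ne_one_of_card {c : ℕ} (h : x.support.card = c + 1) : x ≠ 1 := by
  rintro rfl
  simp at h

theorem Six.ne_one (h : Six x) : x ≠ 1 := ne_one_of_card h.2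
theorem Four.ne_one (h : Four x) : x ≠ 1 := ne_one_of_card h.2
theorem Two.ne_one (h : Two x) : x ≠ 1 := ne_one_of_card h.2

theorem commute_of_fixed (p : Fin n → Prop) (hx : ∀ i, p i → x i = i) (hy : ∀ i, ¬ p i → y i = i) :
    Commute x y := by
  refine Disjoint.commute fun i => ?_
  by_cases h : p i
  exacts [Or.inl (hx i h), Or.inr (hy i h)]

theorem card_of_fixed (p : Fin n → Prop) (hx : ∀ i, p i → x i = i) (hy : ∀ i, ¬ p i → y i = i) :
    (x * y).support.card = x.support.card + y.support.card := by
  refine Disjoint.card_support_mul fun i => ?_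
  by_cases h : p i
  exacts [Or.inl (hx i h), Or.inr (hy i h)]

variable [NeZero n]

/-- The standard involution with two cycles. -/
def cJ (n : ℕ) [NeZero n] : Perm (Fin n) := swap 0 1 * swap 2 3

/-- The second generator of the four group on the first four points. -/
def cU (n : ℕ) [NeZero n] : Perm (Fin n) := swap 0 3 * swap 1 2

/-- The product of the two generators. -/
def cW (n : ℕ) [NeZero n] : Perm (Fin n) := swap 0 2 * swap 1 3

/-- Four cycles outside the first four points. -/
def cE4 (n : ℕ) [NeZero n] : Perm (Fin n) := swap 4 5 * swap 6 7 * swap 8 9 * swap 10 11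

/-- Two cycles outside the first eight points. -/
def cE2 (n : ℕ) [NeZero n] : Perm (Fin n) := swap 8 9 * swap 10 11

/-- Two cycles among the second four points. -/
def cZ (n : ℕ) [NeZero n] : Perm (Fin n) := swap 4 5 * swap 6 7

end CfsgLib.Alt12Inv
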