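import Cfsg.Agent.Invol.Dihedral
import Mathlib.GroupTheory.PGroup

/-!
# Splitting an outside conjugate against an inside one

For involutions `a`, `m` the element `d = a * m` has an odd part, used to move `m` next to `a`, and a part of
2-power order, which generates with `a` a 2-group.
-/

set_option autoImplicit false
set_option linter.unusedSectionVars false
set_option linter.style.haveILetI false

namespace CfsgLib.Alt12Inv

open Subgroup

universe u v

variable {G : Type u} [Group G]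

theorem conj_sq_one {a b : G} (h : IsConj a b) (ha : a * a = 1) : b * b = 1 := by
  obtain ⟨c, rfl⟩ := isConj_iff.1 h
  calc c * a * c⁻¹ * (c * a * c⁻¹) = c * (a * a) * c⁻¹ := by group
    _ = 1 := by rw [ha, mul_one, mul_inv_cancel]

theorem inverts_mul {a b : G} (ha : a * a = 1) (hb : b * b = 1) : a * (a * b) * a⁻¹ = (a * b)⁻¹ := by
  rw [mul_inv_rev, inv_eq_of_mul_eq_one_right ha, inv_eq_of_mul_eq_one_right hb, ← mul_assoc, ha, one_mul]

theorem inverts_mul' {a b : G} (ha : a * a = 1) (hb : b * b = 1) : b * (a * b) * b⁻¹ = (a * b)⁻¹ := by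
  rw [mul_inv_rev, inv_eq_of_mul_eq_one_right ha, inv_eq_of_mul_eq_one_right hb, mul_assoc, mul_assoc, hb, mul_one]

theorem commute_pow_of_inverts {a d : G} (h : a * d * a⁻¹ = d⁻¹) {i : ℕ} (hi : d ^ i * d ^ i = 1) :
    Commute (d ^ i) a := by
  have h1 : a * d ^ i * a⁻¹ = d ^ i := by
    rw [← conj_pow, h, inv_pow, inv_eq_of_mul_eq_one_right hi]
  exact (mul_inv_eq_iff_eq_mul.1 h1).symm

/-- A nontrivial element of 2-power order has a power that is an involution. -/
theorem exists_pow_invol {x : G} (k : ℕ) (hk : x ^ 2 ^ k = 1) (hx : x ≠ 1) :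
    ∃ i, x ^ 2 ^ i ≠ 1 ∧ x ^ 2 ^ i * x ^ 2 ^ i = 1 := by
  induction k with
  | zero => exact absurd (by simpa using hk) hx
  | succ k ih =>
    by_cases h : x ^ 2 ^ k = 1
    · exact ih h
    · exact ⟨k, h, by rw [← pow_add, ← two_mul, ← pow_succ']; exact hk⟩

theorem commute_zpowers_sup {a p u : G} (ha : Commute u a) (hp : Commute u p) {c : G}
    (hc : c ∈ zpowers a ⊔ zpowers p) : Commute c u :=
  (mem_centralizer_singleton_iff.1 ((sup_le (zpowers_le.2 (mem_centralizer_singleton_iff.2 ha.symm.eq))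
    (zpowers_le.2 (mem_centralizer_singleton_iff.2 hp.symm.eq))) hc))

/-- An involution with an element of 2-power order it inverts, and central involutions, generate a 2-group. -/
theorem pgroup_pair [Finite G] {a p : G} (ha : a * a = 1) (hap : a * p * a⁻¹ = p⁻¹) {i : ℕ}
    (hp : p ^ 2 ^ i = 1) {U : Subgroup G} (hU : ∀ u ∈ U, u * u = 1) (hUa : ∀ u ∈ U, Commute u a)
    (hUp : ∀ u ∈ U, Commute u p) : IsPGroup 2 (U ⊔ (zpowers a ⊔ zpowers p) : Subgroup G) := by
  haveI : Fact (Nat.Prime 2) := ⟨Nat.prime_two⟩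
  have cyc : ∀ (x : G) (j : ℕ), x ^ 2 ^ j = 1 → IsPGroup 2 (zpowers x) := fun x j h => by
    obtain ⟨k, -, hk⟩ := (Nat.dvd_prime_pow Nat.prime_two).1 (orderOf_dvd_of_pow_eq_one h)
    exact IsPGroup.of_card (n := k) (by rw [Nat.card_zpowers, hk])
  have h1 : IsPGroup 2 (zpowers a ⊔ zpowers p : Subgroup G) := by
    refine (cyc a 1 (by rw [pow_one, pow_two, ha])).to_sup_of_normal_right' (cyc p i hp) ?_
    rw [zpowers_le, mem_normalizer_iff_map_conj_eq]
    show (zpowers p).map (MulAut.conj a).toMonoidHom = _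
    rw [MonoidHom.map_zpowers]
    show zpowers (a * p * a⁻¹) = _
    rw [hap, zpowers_inv]
  have h2 : IsPGroup 2 U := fun u => ⟨1, Subtype.ext (by simpa [pow_two] using hU u u.2)⟩
  refine h2.to_sup_of_normal_right' h1 fun u hu => ?_
  rw [mem_normalizer_iff]
  intro x
  constructor
  · intro hx
    rw [← (commute_zpowers_sup (hUa u hu) (hUp u hu) hx).eq, mul_inv_cancel_right]
    exact hx
  · intro hx
    have h := commute_zpowers_sup (hUa u hu) (hUp u hu) hx
    have e : u * x * u⁻¹ = x :=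
      mul_left_cancel (a := u) (h.eq.symm.trans (inv_mul_cancel_right (u * x) u))
    rwa [e] at hx

variable {K : Type v} [Group K] [Finite G] {α : G} {P : K → Prop} {f : K →* G}

/-- A 2-group all of whose central elements are inside is inside. -/
theorem two_le (six : ∀ x, P x ↔ IsConj α (f x))
    (two : ∀ Q : Subgroup G, IsPGroup 2 Q → ∃ g, ∀ p ∈ Q, Commute p (g * α * g⁻¹))
    {Q : Subgroup G} (hQ : IsPGroup 2 Q) (hin : ∀ c, (∀ p ∈ Q, Commute c p) → c ∈ f.range)
    (hout : ∀ x, P x → ∀ p ∈ Q, Commute p (f x) → p ∈ f.range) : Q ≤ f.range := by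
  obtain ⟨g, hg⟩ := two Q hQ
  obtain ⟨x, hx⟩ := hin _ fun p hp => (hg p hp).symm
  exact fun p hp => hout x ((six x).2 (isConj_iff.2 ⟨g, hx.symm⟩)) p hp (hx ▸ hg p hp)

/-- An outside conjugate of `α` is moved to an inside one that forms a 2-group with a given one. -/
theorem split (hf : Function.Injective f) (six : ∀ x, P x ↔ IsConj α (f x)) (sq : ∀ x, P x → x * x = 1)
    (two : ∀ Q : Subgroup G, IsPGroup 2 Q → ∃ g, ∀ p ∈ Q, Commute p (g * α * g⁻¹))
    {U : Subgroup G} (hU : ∀ u ∈ U, u * u = 1)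
    (cent : ∀ x, P x → ∀ c, (∀ u ∈ U, Commute c u) → Commute c (f x) → c ∈ f.range)
    {m : G} (hm : IsConj α m) (hmU : ∀ u ∈ U, Commute u m) {l : K} (hl : P l)
    (hlU : ∀ u ∈ U, Commute u (f l)) :
    ∃ y r, P y ∧ r * m * r⁻¹ = f y ∧ (∀ z, Commute z (f l) → Commute z m → Commute z r) ∧
      (∃ k, (l * y) ^ 2 ^ k = 1) ∧
      (∀ i : ℕ, (l * y) ^ i * (l * y) ^ i = 1 → Commute (f ((l * y) ^ i)) m) := by
  have hl2 : f l * f l = 1 := by rw [← map_mul, sq l hl, map_one]
  have hm2 : m * m = 1 := conj_sq_one (((six l).1 hl).symm.trans hm) hl2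
  obtain ⟨d, hd⟩ : ∃ d, d = f l * m := ⟨_, rfl⟩
  have hinv : f l * d * (f l)⁻¹ = d⁻¹ := hd ▸ inverts_mul hl2 hm2
  obtain ⟨a, o, ho, hN⟩ := Nat.exists_eq_pow_mul_and_not_dvd (orderOf_pos d).ne' 2 (by norm_num)
  obtain ⟨j, hj⟩ := Nat.odd_iff.2 (Nat.two_dvd_ne_zero.1 ho)
  obtain ⟨p, hp⟩ : ∃ p, p = d ^ o := ⟨_, rfl⟩
  obtain ⟨r, hr⟩ : ∃ r, r = d ^ (j + 1) := ⟨_, rfl⟩
  have hml : m = f l * d := by rw [hd, ← mul_assoc, hl2, one_mul]
  have hconj : ∀ i : ℕ, f l * d ^ i * (f l)⁻¹ = (d ^ i)⁻¹ := fun i => by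
    rw [← conj_pow, hinv, inv_pow]
  have hy1 : r * m * r⁻¹ = f l * p⁻¹ := by
    have h2 := hconj (j + 1)
    rw [← hr, inv_eq_of_mul_eq_one_right hl2] at h2
    calc r * m * r⁻¹ = (f l * f l) * r * (f l * d) * r⁻¹ := by rw [hl2, one_mul, ← hml]
      _ = f l * (f l * r * f l) * d * r⁻¹ := by group
      _ = _ := by
        rw [h2, hr, hp, hj, show 2 * j + 1 = (j + 1) + j by omega, pow_add d (j + 1) j, pow_succ]
        group
  have hp2 : p ^ 2 ^ a = 1 := by rw [hp, ← pow_mul, mul_comm, ← hN, pow_orderOf_eq_one]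
  have hdU : ∀ u ∈ U, Commute u d := fun u hu => hd ▸ (hlU u hu).mul_right (hmU u hu)
  have hQ := pgroup_pair hl2 (hp ▸ hconj o) hp2 hU hlU fun u hu => hp ▸ (hdU u hu).pow_right o
  have hlQ : f l ∈ U ⊔ (zpowers (f l) ⊔ zpowers p) :=
    (le_sup_right : zpowers (f l) ⊔ zpowers p ≤ _)
      ((le_sup_left : zpowers (f l) ≤ zpowers (f l) ⊔ zpowers p) (mem_zpowers _))
  have hpQ : p ∈ U ⊔ (zpowers (f l) ⊔ zpowers p) :=
    (le_sup_right : zpowers (f l) ⊔ zpowers p ≤ _)
      ((le_sup_right : zpowers p ≤ zpowers (f l) ⊔ zpowers p) (mem_zpowers _))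
  have hle := two_le six two hQ
    (fun c hc => cent l hl c (fun u hu => hc u ((le_sup_left : U ≤ _) hu)) (hc _ hlQ))
    (fun x hx q hq hqx => by
      refine cent x hx q (fun u hu => Commute.symm ?_) hqx
      have hle : U ⊔ (zpowers (f l) ⊔ zpowers p) ≤ centralizer ({u} : Set G) :=
        sup_le (fun w hw => mem_centralizer_singleton_iff.2 (by
            have hwu := hU _ (mul_mem hw hu)
            show w * u = u * w
            rw [← inv_eq_of_mul_eq_one_right hwu, mul_inv_rev, inv_eq_of_mul_eq_one_right (hU u hu),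
              inv_eq_of_mul_eq_one_right (hU w hw)]))
          (sup_le (zpowers_le.2 (mem_centralizer_singleton_iff.2 (hlU u hu).eq.symm))
            (zpowers_le.2 (mem_centralizer_singleton_iff.2 (hp ▸ (hdU u hu).pow_right o).eq.symm)))
      exact (show Commute q u from mem_centralizer_singleton_iff.1 (hle hq)).symm)
  obtain ⟨y, hy⟩ : f l * p⁻¹ ∈ f.range := hle (mul_mem hlQ (inv_mem hpQ))
  rw [← hy] at hy1
  have hyP : P y := (six y).2 (hm.trans (isConj_iff.2 ⟨r, hy1⟩))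
  have hly : f (l * y) = p⁻¹ := by rw [map_mul, hy, ← mul_assoc, hl2, one_mul]
  refine ⟨y, r, hyP, hy1, fun z h1 h2 => hr ▸ hd ▸ (h1.mul_right h2).pow_right _,
    ⟨a, hf (by rw [map_pow, hly, inv_pow, hp2, inv_one, map_one])⟩, fun i hi => ?_⟩
  have h1 : Commute (f ((l * y) ^ i)) (f y) :=
    (commute_pow_of_inverts (inverts_mul' (sq l hl) (sq y hyP)) hi).map f
  have h2 : Commute (f ((l * y) ^ i)) r := by
    rw [map_pow, hly, hp, hr]
    exact ((Commute.pow_pow_self d o (j + 1)).inv_left).pow_left i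
  rw [show m = r⁻¹ * f y * r by rw [← hy1]; group]
  exact (h2.inv_right.mul_right h1).mul_right h2

end CfsgLib.Alt12Inv
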