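import Mathlib.GroupTheory.SpecificGroups.Alternating
import Mathlib.GroupTheory.Perm.Fin
import Mathlib.GroupTheory.PGroup

/-!
Vocabulary for the recognition of the alternating groups of degree twelve and thirteen from the
centralizer of an involution with six cycles.
-/

set_option autoImplicit false

namespace CfsgLib.Alt12Inv

open Equiv

universe u

variable {n : ℕ}

/-- An involution with six cycles. -/
def Six (x : Perm (Fin n)) : Prop := x * x = 1 ∧ x.support.card = 12

/-- An involution with four cycles. -/
def Four (x : Perm (Fin n)) : Prop := x * x = 1 ∧ x.support.card = 8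

/-- An involution with two cycles. -/
def Two (x : Perm (Fin n)) : Prop := x * x = 1 ∧ x.support.card = 4

/-- The standard involution with four cycles. -/
def pFour (n : ℕ) [NeZero n] : Perm (Fin n) := swap 0 1 * swap 2 3 * swap 4 5 * swap 6 7

/-- Second generator of the regular elementary group on eight points. -/
def pReg₁ (n : ℕ) [NeZero n] : Perm (Fin n) := swap 0 2 * swap 1 3 * swap 4 6 * swap 5 7

/-- Third generator of the regular elementary group on eight points. -/
def pReg₂ (n : ℕ) [NeZero n] : Perm (Fin n) := swap 0 4 * swap 1 5 * swap 2 6 * swap 3 7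

/-- An alternating subgroup of degree twelve or thirteen that contains the centralizer of an involution. -/
structure Core {G : Type u} [Group G] (α : G) (n : ℕ) [NeZero n] where
  /-- The embedding. -/
  f : ↥(alternatingGroup (Fin n)) →* G
  inj : Function.Injective f
  le : ∀ c, Commute c α → c ∈ f.range
  six : ∀ x : ↥(alternatingGroup (Fin n)), Six (x : Perm (Fin n)) ↔ IsConj α (f x)
  twoFour : ∀ x y : ↥(alternatingGroup (Fin n)), Two (x : Perm (Fin n)) → Four (y : Perm (Fin n)) →
    ¬ IsConj (f x) (f y)
  reg : ∀ j a b : ↥(alternatingGroup (Fin n)), (j : Perm (Fin n)) = pFour n →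
    (a : Perm (Fin n)) = pReg₁ n → (b : Perm (Fin n)) = pReg₂ n →
    ∀ c, Commute c (f j) → Commute c (f a) → Commute c (f b) → c ∈ f.range
  two : ∀ P : Subgroup G, IsPGroup 2 P → ∃ g, ∀ p ∈ P, Commute p (g * α * g⁻¹)

end CfsgLib.Alt12Inv
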