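import Cfsg.Agent.Alt12Inv.Fusion.Sylow

/-!
Named elements of the centralizer of the fixed-point-free involution.
-/

set_option autoImplicit false

namespace CfsgLib.Alt12Inv

open Equiv

instance (x : Perm (Fin 12)) : Decidable (x ∈ C₀) :=
  decidable_of_iff (Perm.sign x = 1 ∧ ∀ i, x (t₀ i) = t₀ (x i)) (by
    rw [mem_C₀, Perm.mem_alternatingGroup, Equiv.ext_iff]; rfl)

/-- `(0 1)(4 5)`. -/
def pW : Perm (Fin 12) := swap 0 1 * swap 4 5
/-- `(4 5)(8 9)`. -/
def pF : Perm (Fin 12) := swap 4 5 * swap 8 9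
/-- `(0 1)(8 9)`. -/
def pG : Perm (Fin 12) := swap 0 1 * swap 8 9
/-- `(2 4)(3 5)`. -/
def pS : Perm (Fin 12) := swap 2 4 * swap 3 5
/-- `(6 8)(7 9)`. -/
def pS' : Perm (Fin 12) := swap 6 8 * swap 7 9
/-- The exchange of the first two quadruples. -/
def pP : Perm (Fin 12) := swap 0 4 * swap 1 5 * swap 2 6 * swap 3 7
/-- The exchange of the last two quadruples. -/
def pX : Perm (Fin 12) := swap 4 8 * swap 5 9 * swap 6 10 * swap 7 11
/-- The exchange of the first and the last quadruple. -/
def pY : Perm (Fin 12) := swap 0 8 * swap 1 9 * swap 2 10 * swap 3 11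

/-- `(0 1)(4 5)` in the centralizer. -/
def cHW : ↥C₀ := ⟨pW, by decide +kernel⟩
/-- `(4 5)(8 9)` in the centralizer. -/
def cFlip : ↥C₀ := ⟨pF, by decide +kernel⟩
/-- `(0 1)(8 9)` in the centralizer. -/
def cG : ↥C₀ := ⟨pG, by decide +kernel⟩
/-- `(2 4)(3 5)` in the centralizer. -/
def cS : ↥C₀ := ⟨pS, by decide +kernel⟩
/-- `(6 8)(7 9)` in the centralizer. -/
def cS' : ↥C₀ := ⟨pS', by decide +kernel⟩
/-- The exchange of the first two quadruples, in the centralizer. -/
def cP : ↥C₀ := ⟨pP, by decide +kernel⟩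
/-- The exchange of the last two quadruples, in the centralizer. -/
def cX : ↥C₀ := ⟨pX, by decide +kernel⟩
/-- The exchange of the first and the last quadruple, in the centralizer. -/
def cY : ↥C₀ := ⟨pY, by decide +kernel⟩

/-- Equality in the centralizer is equality at the twelve points. -/
theorem c_ext_iff {x y : ↥C₀} : x = y ↔ ∀ i, (x : Perm (Fin 12)) i = (y : Perm (Fin 12)) i :=
  Subtype.ext_iff.trans Equiv.ext_iff

/-- An equation in the centralizer is decided at the twelve points. -/
instance (priority := high) decEqC (x y : ↥C₀) : Decidable (x = y) := decidable_of_iff _ c_ext_iff.symm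

theorem cHW_sq : cHW * cHW = 1 := by decide +kernel
theorem cFlip_sq : cFlip * cFlip = 1 := by decide +kernel
theorem cG_sq : cG * cG = 1 := by decide +kernel
theorem cS_sq : cS * cS = 1 := by decide +kernel
theorem cP_sq : cP * cP = 1 := by decide +kernel
theorem cX_sq : cX * cX = 1 := by decide +kernel
theorem cY_sq : cY * cY = 1 := by decide +kernel

theorem vadd_self : ∀ v, vadd v v = 0 := by decide +kernel
theorem vadd_comm : ∀ v w, vadd v w = vadd w v := by decide +kernel

end CfsgLib.Alt12Inv
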