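import Cfsg.Agent.Alt12Inv.Defs
import Mathlib.GroupTheory.Sylow
import Mathlib.Tactic.FinCases

/-!
Coordinates on the centralizer of an involution with six cycles in the alternating group of degree
twelve: the elementary group of order 64 on three quadruples, and frames in an abstract group.
-/

set_option autoImplicit false

namespace CfsgLib.Alt12Inv

open Equiv

universe u

/-- The fixed-point-free involution. -/
def t₀ : Perm (Fin 12) :=
  swap (0 : Fin 12) 1 * swap (2 : Fin 12) 3 * swap (4 : Fin 12) 5 * swap (6 : Fin 12) 7 *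
    swap (8 : Fin 12) 9 * swap (10 : Fin 12) 11

/-- Its centralizer in the alternating group. -/
def C₀ : Subgroup (Perm (Fin 12)) :=
  alternatingGroup (Fin 12) ⊓ Subgroup.centralizer ({t₀} : Set (Perm (Fin 12)))

theorem mem_C₀ {x : Perm (Fin 12)} :
    x ∈ C₀ ↔ x ∈ alternatingGroup (Fin 12) ∧ x * t₀ = t₀ * x := by
  simp [C₀, Subgroup.mem_centralizer_singleton_iff]

/-- A digit of a code, in base four. -/
def dig (v : Fin 64) (b : ℕ) : ℕ := v.1 / 4 ^ b % 4

/-- The translation of the three quadruples given by a code. -/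
def aFun (v : Fin 64) (i : Fin 12) : Fin 12 :=
  ⟨(4 * (i.1 / 4) + (Nat.xor (i.1 % 4) (dig v (i.1 / 4)))) % 12, Nat.mod_lt _ (by decide)⟩

theorem aFun_invol : ∀ v i, aFun v (aFun v i) = i := by decide +kernel

/-- The same as a permutation. -/
def aEl (v : Fin 64) : Perm (Fin 12) := ⟨aFun v, aFun v, aFun_invol v, aFun_invol v⟩

theorem aEl_mem : ∀ v, aEl v ∈ C₀ := by
  simp only [mem_C₀, Perm.mem_alternatingGroup, Equiv.ext_iff, Perm.mul_apply]
  decide +kernel

/-- The elementary group of order 64 inside the centralizer. -/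
def aC (v : Fin 64) : ↥C₀ := ⟨aEl v, aEl_mem v⟩

/-- The sum of two codes. -/
def vadd (v w : Fin 64) : Fin 64 := ⟨Nat.xor v.1 w.1 % 64, Nat.mod_lt _ (by decide)⟩

theorem aFun_vadd : ∀ v w i, aFun v (aFun w i) = aFun (vadd v w) i := by decide +kernel

theorem aC_mul (v w : Fin 64) : aC v * aC w = aC (vadd v w) :=
  Subtype.ext (Equiv.ext fun i => aFun_vadd v w i)

theorem aC_injective : Function.Injective aC := by
  intro v w h
  have key : ∀ v w : Fin 64, aFun v 0 = aFun w 0 ∧ aFun v 4 = aFun w 4 ∧ aFun v 8 = aFun w 8 → v = w := by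
    decide +kernel
  have e := fun i : Fin 12 => congrArg (fun x : ↥C₀ => (x : Perm (Fin 12)) i) h
  exact key v w ⟨e 0, e 4, e 8⟩

/-- The number of nonzero digits. -/
def weight (v : Fin 64) : ℕ :=
  (if dig v 0 = 0 then 0 else 1) + (if dig v 1 = 0 then 0 else 1) + (if dig v 2 = 0 then 0 else 1)

/-- The fused class in the symplectic case: the centre and the six short translations. -/
def Short (v : Fin 64) : Prop :=
  v.1 = 21 ∨ v.1 = 2 ∨ v.1 = 3 ∨ v.1 = 8 ∨ v.1 = 12 ∨ v.1 = 32 ∨ v.1 = 48

/-- The rotation of the first quadruple by the three-cycle `(0 1 2)`. -/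
def rotCode (v : Fin 64) : Fin 64 :=
  ⟨(4 * (v.1 / 4) + ([0, 3, 1, 2].getD (v.1 % 4) 0)) % 64, Nat.mod_lt _ (by decide)⟩

/-- Coordinates of the centralizer of an involution in an abstract group. -/
structure Frame {G : Type u} [Group G] (α : G) where
  /-- The coordinates. -/
  ι : ↥C₀ →* G
  inj : Function.Injective ι
  range_eq : ι.range = Subgroup.centralizer ({α} : Set G)
  centre : ι (aC 21) = α
  /-- A Sylow subgroup centralizing the involution. -/
  S : Sylow 2 G
  comm : ∀ s ∈ (S : Subgroup G), Commute s α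
  mem : α ∈ (S : Subgroup G)

/-- The translation of a code in the abstract group. -/
def Frame.a {G : Type u} [Group G] {α : G} (F : Frame α) (v : Fin 64) : G := F.ι (aC v)

/-- The code is conjugate to the involution. -/
def Frame.Fused {G : Type u} [Group G] {α : G} (F : Frame α) (v : Fin 64) : Prop := IsConj α (F.a v)

end CfsgLib.Alt12Inv
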